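import Cfsg.Agent.H737.RootComp
import Cfsg.Agent.Lib.Cores
import Cfsg.Prelude.Def_QuasithinSetup
set_option linter.all false

/-!
# Root involutions: normal subgroups

For a connected set of root involutions `D` of a finite group `G` containing a line, every proper
normal subgroup of `G` lies in `Z_*(G) = twoZCore G` (`le_twoZCore_of_normal`), `G` is perfect
(`commutator_eq_top`) and `Z_*(G) ≠ G`.
-/

set_option autoImplicit false

namespace Cfsg.Agent.H737

open scoped commutatorElement

variable {G : Type*} [Group G] {D : Set G}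

/-- An element whose square lies in a 2-subgroup has 2-power order. -/
theorem eq_one_of_odd_of_mem {N : Subgroup G} (hN : IsPGroup 2 N) {x : G}
    (hx : Odd (orderOf x)) (h2 : x ^ 2 ∈ N) : x = 1 := by
  obtain ⟨k, hk⟩ := hN ⟨_, h2⟩
  have hk' : (x ^ 2) ^ 2 ^ k = 1 := by
    have := congrArg Subtype.val hk
    simpa using this
  rw [← pow_mul, ← pow_succ'] at hk'
  have h4 : orderOf x ∣ 2 ^ (k + 1) := orderOf_dvd_of_pow_eq_one hk'
  have h6 : Nat.Coprime (orderOf x) (2 ^ (k + 1)) :=
    Nat.Coprime.pow_right _ hx.coprime_two_right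
  exact orderOf_eq_one_iff.1 (Nat.Coprime.eq_one_of_dvd h6 h4)

theorem not_opp_of_mul_mem {N : Subgroup G} (hN : IsPGroup 2 N)
    (h : IsRootInvolutionSet D) {a b : G} (hb : b ∈ D)
    (hab : a * b * a * b ∈ N) : ¬ Opp a b := by
  intro ho
  have h1 : a * b = 1 := eq_one_of_odd_of_mem hN ho.2 (by
    rw [pow_two]; simpa only [mul_assoc] using hab)
  apply ho.1
  calc a = a * (b * b) := by rw [sq_of_mem h hb, mul_one]
    _ = (a * b) * b := by group
    _ = b := by rw [h1, one_mul]

/-- In a connected set of root involutions containing a line, every member lies on a line. -/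
theorem exists_line (h : IsRootInvolutionSet D) (hc : IsConnectedSet (OddAdj D) D)
    (hDD : (D ∩ commutingProducts D).Nonempty) {d : G} (hd : d ∈ D) :
    ∃ b ∈ D, Commute d b ∧ d * b ∈ D := by
  obtain ⟨x, hx, a, ha, b, hb, hab, -, rfl⟩ := hDD
  obtain ⟨g, hg⟩ := exists_conj_of_connected h hc ha hd
  refine ⟨g * b * g⁻¹, h.conj_mem b hb g, ?_, ?_⟩
  · rw [← hg]
    show g * a * g⁻¹ * (g * b * g⁻¹) = g * b * g⁻¹ * (g * a * g⁻¹)
    calc g * a * g⁻¹ * (g * b * g⁻¹) = g * (a * b) * g⁻¹ := by group
      _ = g * (b * a) * g⁻¹ := by rw [hab]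
      _ = _ := by group
  · rw [← hg]
    have : g * a * g⁻¹ * (g * b * g⁻¹) = g * (a * b) * g⁻¹ := by group
    rw [this]
    exact h.conj_mem _ hx g

/-- A proper normal subgroup contains no member of `D`. -/
theorem not_mem_of_normal_ne_top (h : IsRootInvolutionSet D) (hc : IsConnectedSet (OddAdj D) D)
    {N : Subgroup G} (hN : N.Normal) (hne : N ≠ ⊤) {d : G} (hd : d ∈ D) : d ∉ N := by
  intro hdN
  apply hne
  rw [eq_top_iff, ← h.generates, Subgroup.closure_le]
  intro e he
  obtain ⟨g, hg⟩ := exists_conj_of_connected h hc hd he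
  rw [SetLike.mem_coe, ← hg]
  exact hN.conj_mem d hdN g

theorem exists_opp_of_line (h : IsRootInvolutionSet D) (hc : IsConnectedSet (OddAdj D) D)
    (hDD : (D ∩ commutingProducts D).Nonempty) : ∃ a ∈ D, ∃ c ∈ D, Opp c a := by
  obtain ⟨x, hx, a, ha, b, hb, hab, hne, rfl⟩ := hDD
  have hab' : a ≠ b := by
    rintro rfl
    exact hne (sq_of_mem h ha)
  obtain ⟨c, hcD, hca⟩ := exists_opp_of_connected h hc ha hb hab'
  exact ⟨a, ha, c, hcD, hca⟩

/-- If `c` is opposite to `a`, then `c a ∉ Z_*(G)`. -/
theorem mul_not_mem_twoZCore (h : IsRootInvolutionSet D) {a c : G} (ha : a ∈ D) (hcD : c ∈ D)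
    (hac : Opp c a) : c * a ∉ twoZCore G := by
  intro hmem
  have hcc := sq_of_mem h hcD
  have haa := sq_of_mem h ha
  rw [twoZCore, Subgroup.mem_comap, Subgroup.mem_center_iff] at hmem
  have h1 := hmem (QuotientGroup.mk' (pCore 2 G) a)
  -- `a (c a) a = (c a)⁻¹`, so `(c a)² ∈ O₂(G)`
  have h2 : QuotientGroup.mk' (pCore 2 G) ((c * a) ^ 2) = 1 := by
    have e : (c * a) ^ 2 = (c * a) * (a * (c * a) * a)⁻¹ := by
      rw [pow_two, mul_inv_rev, mul_inv_rev, mul_inv_rev, inv_of_sq haa, inv_of_sq hcc]
      calc c * a * (c * a) = c * a * (c * a) := rfl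
        _ = c * a * (1 * (c * a)) := by group
        _ = c * a * ((a * a) * (c * a)) := by rw [haa]
        _ = _ := by group
    rw [e, map_mul, map_inv]
    have h3 : QuotientGroup.mk' (pCore 2 G) (a * (c * a) * a) = QuotientGroup.mk' (pCore 2 G) (c * a) := by
      rw [map_mul, map_mul, h1, mul_assoc, ← map_mul, haa, map_one, mul_one]
    rw [h3, mul_inv_cancel]
  have h3 : (c * a) ^ 2 ∈ pCore 2 G := (QuotientGroup.eq_one_iff _).1 h2
  have h4 : c * a = 1 := eq_one_of_odd_of_mem (Cfsg.Agent.Lib.Cores.pCore_isPGroup 2) hac.2 h3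
  apply hac.1
  calc c = c * (a * a) := by rw [haa, mul_one]
    _ = (c * a) * a := by group
    _ = a := by rw [h4, one_mul]

variable [Finite G]

/-- **Every proper normal subgroup centralizes `D` modulo `O₂(G)`.** -/
theorem commute_mod_twoCore (h : IsRootInvolutionSet D) (hc : IsConnectedSet (OddAdj D) D)
    (hDD : (D ∩ commutingProducts D).Nonempty) {N : Subgroup G} (hN : N.Normal) (hne : N ≠ ⊤)
    {d n : G} (hd : d ∈ D) (hn : n ∈ N) : n * d * n⁻¹ * d ∈ pCore 2 G := by
  have hDN : ∀ d ∈ D, d ∉ N := fun d hd => not_mem_of_normal_ne_top h hc hN hne hd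
  have hdd := sq_of_mem h hd
  have hdinv := inv_of_mem h hd
  -- elements of `N` do not move `d` to an opposite element
  have hno : ∀ n ∈ N, ¬ Opp (n * d * n⁻¹) d := by
    intro n hn ho
    obtain ⟨b, hb, hdb, hdbD⟩ := exists_line h hc hDD hd
    have hcD : n * d * n⁻¹ ∈ D := h.conj_mem d hd n
    set m : G := n * d * n⁻¹ * d with hm
    have hmN : m ∈ N := by
      have : m = n * (d * n⁻¹ * d⁻¹) := by rw [hm, hdinv]; group
      rw [this]
      exact N.mul_mem hn (hN.conj_mem _ (N.inv_mem hn) d)
    have hcm : n * d * n⁻¹ = m * d := by rw [hm, mul_assoc _ d d, hdd, mul_one]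
    -- if `m * x` has odd order and `x` is an involution in `D`, then `x ∈ N`
    have key : ∀ x ∈ D, Odd (orderOf (m * x)) → False := by
      intro x hx hodd
      apply hDN x hx
      have hxx := sq_of_mem h hx
      have h1 : ((m * x : G) : G ⧸ N) = (x : G ⧸ N) := by
        have h2 : ((m : G) : G ⧸ N) = 1 := (QuotientGroup.eq_one_iff m).2 hmN
        rw [QuotientGroup.mk_mul, h2, one_mul]
      obtain ⟨k, hk⟩ := hodd
      have h3 : (m * x) ^ (2 * k + 1) = 1 := by rw [← hk, pow_orderOf_eq_one]
      have h4 : ((x : G ⧸ N)) ^ (2 * k + 1) = 1 := by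
        rw [← h1, ← QuotientGroup.mk_pow, h3, QuotientGroup.mk_one]
      have h5 : (x : G ⧸ N) ^ 2 = 1 := by
        rw [← QuotientGroup.mk_pow, pow_two, hxx, QuotientGroup.mk_one]
      rw [pow_succ, pow_mul, h5, one_pow, one_mul] at h4
      exact (QuotientGroup.eq_one_iff x).1 h4
    have hbdD : b * d ∈ D := by rwa [← hdb.eq]
    rcases opp_or_opp_of_line h hb hd hdb.symm hbdD hcD ho with h1 | h1
    · refine key (d * b) hdbD ?_
      have := h1.2
      rwa [hcm, mul_assoc] at this
    · refine key b hb ?_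
      have := h1.2
      rw [hcm, hdb.symm.eq] at this
      have e : m * d * (d * b) = m * b := by
        calc m * d * (d * b) = m * (d * d) * b := by group
          _ = m * b := by rw [hdd, mul_one]
      rwa [e] at this
  -- hence `d` commutes with its conjugates under `N`
  have hcomm : ∀ n ∈ N, Commute (n * d * n⁻¹) d := by
    intro n hn
    by_contra hcon
    have hcD : n * d * n⁻¹ ∈ D := h.conj_mem d hd n
    obtain ⟨-, h4⟩ := order_four_of h hcD hd hcon (hno n hn)
    refine hDN _ h4 ?_
    have e : n * d * n⁻¹ * (d * (n * d * n⁻¹) * d) =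
        (n * (d * n⁻¹ * d⁻¹)) * (n * (d * n⁻¹ * d⁻¹)) := by
      rw [hdinv]; group
    rw [e]
    have := N.mul_mem hn (hN.conj_mem _ (N.inv_mem hn) d)
    exact N.mul_mem this this
  -- the abelian group generated by the conjugates
  set A : Subgroup G := Subgroup.closure {x | ∃ n ∈ N, x = n * d * n⁻¹} with hA
  have hgen : ∀ n ∈ N, ∀ n' ∈ N, Commute (n * d * n⁻¹) (n' * d * n'⁻¹) := by
    intro n hn n' hn'
    have h1 := hcomm (n'⁻¹ * n) (N.mul_mem (N.inv_mem hn') hn)
    show n * d * n⁻¹ * (n' * d * n'⁻¹) = n' * d * n'⁻¹ * (n * d * n⁻¹)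
    calc n * d * n⁻¹ * (n' * d * n'⁻¹)
        = n' * ((n'⁻¹ * n) * d * (n'⁻¹ * n)⁻¹ * d) * n'⁻¹ := by group
      _ = n' * (d * ((n'⁻¹ * n) * d * (n'⁻¹ * n)⁻¹)) * n'⁻¹ := by rw [h1.eq]
      _ = _ := by group
  have hA2 : ∀ x ∈ A, x * x = 1 ∧ ∀ y ∈ A, Commute x y := by
    have hAcomm : ∀ x ∈ A, ∀ y ∈ A, Commute x y := by
      intro x hx y hy
      have h1 : ∀ n ∈ N, Commute (n * d * n⁻¹) y := by
        intro n hn
        induction hy using Subgroup.closure_induction with
        | mem y hy => obtain ⟨n', hn', rfl⟩ := hy; exact hgen n hn n' hn'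
        | one => exact Commute.one_right _
        | mul a b _ _ ha hb => exact ha.mul_right hb
        | inv a _ ha => exact ha.inv_right
      induction hx using Subgroup.closure_induction with
      | mem x hx => obtain ⟨n', hn', rfl⟩ := hx; exact h1 n' hn'
      | one => exact Commute.one_left _
      | mul a b _ _ ha hb => exact ha.mul_left hb
      | inv a _ ha => exact ha.inv_left
    intro x hx
    refine ⟨?_, hAcomm x hx⟩
    induction hx using Subgroup.closure_induction with
    | mem x hx => obtain ⟨n', hn', rfl⟩ := hx; exact sq_of_mem h (h.conj_mem d hd n')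
    | one => simp
    | mul a b ha hb iha ihb =>
      have := (hAcomm a ha b hb).eq
      calc a * b * (a * b) = a * (b * a) * b := by group
        _ = a * (a * b) * b := by rw [← this]
        _ = (a * a) * (b * b) := by group
        _ = 1 := by rw [iha, ihb, one_mul]
    | inv a ha iha =>
      rw [inv_of_sq iha]; exact iha
  set B : Subgroup G := A ⊓ N with hB
  have hB2 : IsPGroup 2 ↥B := by
    rintro ⟨x, hx⟩
    refine ⟨1, Subtype.ext ?_⟩
    have := (hA2 x hx.1).1
    simpa [pow_two] using this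
  have hBN : (B.subgroupOf N).Normal := by
    constructor
    rintro ⟨x, hxN⟩ hx ⟨g, hg⟩
    rw [Subgroup.mem_subgroupOf] at hx ⊢
    refine ⟨?_, N.mul_mem (N.mul_mem hg hxN) (N.inv_mem hg)⟩
    have hxA : x ∈ A := hx.1
    show g * x * g⁻¹ ∈ A
    clear hx hxN
    induction hxA using Subgroup.closure_induction with
    | mem x hx =>
      obtain ⟨n', hn', rfl⟩ := hx
      refine Subgroup.subset_closure ⟨g * n', N.mul_mem hg hn', ?_⟩
      group
    | one => simp
    | mul a b _ _ ha hb =>
      have := A.mul_mem ha hb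
      simpa [mul_assoc] using this
    | inv a _ ha =>
      have := A.inv_mem ha
      simpa [mul_assoc] using this
  have hBle : B ≤ pCore 2 G := by
    have h1 : B.subgroupOf N ≤ pCore 2 ↥N :=
      Cfsg.Agent.Lib.Cores.le_pCore hBN (hB2.comap_of_injective N.subtype N.subtype_injective)
    have h2 : (B.subgroupOf N).map N.subtype ≤ (pCore 2 ↥N).map N.subtype :=
      Subgroup.map_mono h1
    rw [Cfsg.Agent.Lib.Cores.map_subtype_pCore 2 hN, Subgroup.subgroupOf_map_subtype] at h2
    intro x hx
    exact (h2 ⟨hx, hx.2⟩).2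
  apply hBle
  refine ⟨?_, ?_⟩
  · refine A.mul_mem (Subgroup.subset_closure ⟨n, hn, rfl⟩) (Subgroup.subset_closure ⟨1, N.one_mem, ?_⟩)
    group
  · have : n * d * n⁻¹ * d = n * (d * n⁻¹ * d⁻¹) := by rw [hdinv]; group
    rw [this]
    exact N.mul_mem hn (hN.conj_mem _ (N.inv_mem hn) d)

theorem le_twoZCore_of_normal (h : IsRootInvolutionSet D) (hc : IsConnectedSet (OddAdj D) D)
    (hDD : (D ∩ commutingProducts D).Nonempty) {N : Subgroup G} (hN : N.Normal) (hne : N ≠ ⊤) :
    N ≤ twoZCore G := by
  intro n hn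
  rw [twoZCore, Subgroup.mem_comap, Subgroup.mem_center_iff]
  -- the elements commuting with `n` modulo `O₂(G)` contain `D`
  have h1 : ∀ g : G, QuotientGroup.mk' (pCore 2 G) g * QuotientGroup.mk' (pCore 2 G) n =
      QuotientGroup.mk' (pCore 2 G) n * QuotientGroup.mk' (pCore 2 G) g := by
    intro g
    have hg : g ∈ Subgroup.closure D := by rw [h.generates]; exact Subgroup.mem_top g
    induction hg using Subgroup.closure_induction with
    | mem d hd =>
      have h2 := commute_mod_twoCore h hc hDD hN hne hd hn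
      have h3 : QuotientGroup.mk' (pCore 2 G) (n * d * n⁻¹ * d) = 1 :=
        (QuotientGroup.eq_one_iff _).2 h2
      have h4 : QuotientGroup.mk' (pCore 2 G) d * QuotientGroup.mk' (pCore 2 G) d = 1 := by
        rw [← map_mul, sq_of_mem h hd, map_one]
      simp only [map_mul, map_inv] at h3
      set x := QuotientGroup.mk' (pCore 2 G) d
      set y := QuotientGroup.mk' (pCore 2 G) n
      calc x * y = (y * x * y⁻¹ * x)⁻¹ * (y * x * y⁻¹ * x) * x * y := by group
        _ = 1 * 1 * x * y := by rw [h3]; group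
        _ = (y * x * y⁻¹ * x) * x * y := by rw [h3]; group
        _ = y * x * y⁻¹ * (x * x) * y := by group
        _ = y * x := by rw [h4]; group
    | one => simp
    | mul a b _ _ ha hb =>
      rw [map_mul]
      calc _ = QuotientGroup.mk' (pCore 2 G) a * (QuotientGroup.mk' (pCore 2 G) b *
            QuotientGroup.mk' (pCore 2 G) n) := by group
        _ = (QuotientGroup.mk' (pCore 2 G) a * QuotientGroup.mk' (pCore 2 G) n) *
            QuotientGroup.mk' (pCore 2 G) b := by rw [hb]; group
        _ = _ := by rw [ha]; group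
    | inv a _ ha =>
      rw [map_inv]
      have : Commute (QuotientGroup.mk' (pCore 2 G) a) (QuotientGroup.mk' (pCore 2 G) n) := ha
      exact this.inv_left.eq
  intro g
  obtain ⟨g, rfl⟩ := QuotientGroup.mk'_surjective (pCore 2 G) g
  exact h1 g

/-- **`G` is perfect.** -/
theorem commutator_eq_top (h : IsRootInvolutionSet D) (hc : IsConnectedSet (OddAdj D) D)
    (hDD : (D ∩ commutingProducts D).Nonempty) : commutator G = ⊤ := by
  by_contra hne
  obtain ⟨a, ha, c, hcD, hca⟩ := exists_opp_of_line h hc hDD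
  have h1 : commutator G ≤ twoZCore G := le_twoZCore_of_normal h hc hDD inferInstance hne
  obtain ⟨g, hg⟩ := exists_conj_of_connected h hc ha hcD
  apply mul_not_mem_twoZCore h ha hcD hca
  apply h1
  have : c * a = ⁅g, a⁆ := by
    rw [commutatorElement_def, inv_of_mem h ha, hg]
  rw [this]
  exact Subgroup.commutator_mem_commutator (Subgroup.mem_top _) (Subgroup.mem_top _)

end Cfsg.Agent.H737
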