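import Cfsg.Agent.H737.RootSim
set_option linter.all false

/-!
# Root involutions: components of the graph `𝓕(D)`

`oddAdj_conj`, `oddAdj_symm`, `isolated_iff`, and `partners_of_component`: a member of `X_a` lies in
the component of the nonisolated vertex `a` or is isolated.
-/

set_option autoImplicit false

namespace Cfsg.Agent.H737

/-- The reflexive transitive closure of a symmetric relation is symmetric. -/
theorem rtg_symm {α : Type*} {r : α → α → Prop} (hr : ∀ a b, r a b → r b a) {x y : α}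
    (h : Relation.ReflTransGen r x y) : Relation.ReflTransGen r y x := by
  induction h with
  | refl => exact .refl
  | tail _ h2 ih => exact (Relation.ReflTransGen.single (hr _ _ h2)).trans ih

variable {G : Type*} [Group G] {D : Set G}

theorem oddAdj_conj (hD : IsRootInvolutionSet D) (g : G)
    {a b : G} (h : OddAdj D a b) : OddAdj D (g * a * g⁻¹) (g * b * g⁻¹) := by
  have h1 := (opp_conj g a b).2 ⟨h.2.2.1, h.2.2.2⟩
  exact ⟨hD.conj_mem a h.1 g, hD.conj_mem b h.2.1 g, h1.1, h1.2⟩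

theorem oddAdj_symm (hD : IsRootInvolutionSet D)
    {a b : G} (h : OddAdj D a b) : OddAdj D b a := by
  have h1 := Opp.symm' hD h.1 h.2.1 ⟨h.2.2.1, h.2.2.2⟩
  exact ⟨h.2.1, h.1, h1.1, h1.2⟩

theorem isolated_iff (hD : IsRootInvolutionSet D) {w : G} :
    IsIsolatedElem (OddAdj D) D w ↔ w ∈ D ∧ ∀ c ∈ D, ¬ Opp c w := by
  constructor
  · rintro ⟨h1, h2⟩
    exact ⟨h1, fun c hc hcw => (h2 c).2 ⟨hc, h1, hcw.1, hcw.2⟩⟩
  · rintro ⟨h1, h2⟩
    refine ⟨h1, fun c => ⟨fun h3 => ?_, fun h3 => ?_⟩⟩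
    · have h4 := oddAdj_symm hD h3
      exact h2 c h4.1 ⟨h4.2.2.1, h4.2.2.2⟩
    · exact h2 c h3.1 ⟨h3.2.2.1, h3.2.2.2⟩

/-- The members of `X_a` for nonisolated `a`. -/
theorem partners_of_component (hD : IsRootInvolutionSet D)
    {a : G} (ha : a ∈ D) (hna : ∃ a' ∈ elemComponentOf (OddAdj D) D a, a' ≠ a) :
    productPartners D a ⊆ elemComponentOf (OddAdj D) D a ∪ {w | IsIsolatedElem (OddAdj D) D w} := by
  rintro b ⟨⟨hbD, hba, hbne⟩, hbaD⟩
  have hab : Commute a b := (show Commute b a from hba).symm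
  have habD : a * b ∈ D := by rw [hab.eq]; exact hbaD
  have hs : ∀ x y : G, Relation.ReflTransGen (OddAdj D) x y →
      Relation.ReflTransGen (OddAdj D) y x := fun x y h => rtg_symm (fun _ _ h => oddAdj_symm hD h) h
  by_cases hw : IsIsolatedElem (OddAdj D) D b
  · exact Or.inr hw
  · left
    refine ⟨hbD, ?_⟩
    rw [isolated_iff hD] at hw
    push Not at hw
    obtain ⟨c, hc, hcb⟩ := hw hbD
    have tob : ∀ x ∈ D, Opp c x → Relation.ReflTransGen (OddAdj D) x b := by
      intro x hx hcx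
      have h1 : OddAdj D c x := ⟨hc, hx, hcx.1, hcx.2⟩
      have h2 : OddAdj D c b := ⟨hc, hbD, hcb.1, hcb.2⟩
      exact (Relation.ReflTransGen.single (oddAdj_symm hD h1)).tail h2
    rcases opp_or_opp_of_line hD ha hbD hab habD hc hcb with h1 | h1
    · exact tob a ha h1
    · -- `ab` and `b` are joined
      have h2 := tob _ habD h1
      obtain ⟨a', ha', hne⟩ := hna
      obtain ⟨c', hc'⟩ : ∃ c' ∈ D, Opp c' a := by
        rcases Relation.ReflTransGen.cases_head ha'.2 with h3 | ⟨c', h3, _⟩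
        · exact absurd h3.symm hne
        · have h4 := oddAdj_symm hD h3
          exact ⟨c', h4.1, h4.2.2.1, h4.2.2.2⟩
      obtain ⟨hc'D, hc'a⟩ := hc'
      have hadj : OddAdj D a c' := oddAdj_symm hD ⟨hc'D, ha, hc'a.1, hc'a.2⟩
      rcases opp_or_opp_of_line hD hbD ha hab.symm hbaD hc'D hc'a with h3 | h3
      · exact (Relation.ReflTransGen.single hadj).tail ⟨hc'D, hbD, h3.1, h3.2⟩
      · rw [← hab.eq] at h3
        exact ((Relation.ReflTransGen.single hadj).tail ⟨hc'D, habD, h3.1, h3.2⟩).trans h2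

end Cfsg.Agent.H737
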