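import Cfsg.Agent.H737.RootInv
import Cfsg.Agent.Involutions.BaerSuzuki
set_option linter.all false

-- part: H737/RootLine
section
/-!
# Root involutions: the sequence attached to a line

`exists_preimage_of_line`: let `{y, z, yz}` be a line (commuting members of `D` with product in
`D`) and `c` a member of `D` opposite to `z` and not opposite to `y`.  Then `y = [u, z]` for some
`u` in `D` commuting with `c` and with `uz` of order 4.
-/

set_option autoImplicit false

namespace Cfsg.Agent.H737

variable {G : Type*} [Group G]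

section Norm

/-- `a n g = (g ρ)^n ρ^{-n}`. -/
def nrm (ρ : G) (n : ℕ) (g : G) : G := (g * ρ) ^ n * (ρ ^ n)⁻¹

theorem nrm_succ (ρ : G) (n : ℕ) (g : G) :
    nrm ρ (n + 1) g = nrm ρ n g * (ρ ^ n * g * (ρ ^ n)⁻¹) := by
  unfold nrm
  rw [pow_succ, pow_succ]
  group

theorem nrm_mem {K : Subgroup G} {ρ : G} (hρ : ∀ x ∈ K, ρ * x * ρ⁻¹ ∈ K) (n : ℕ) {g : G}
    (hg : g ∈ K) : nrm ρ n g ∈ K := by
  have hpow : ∀ n : ℕ, ∀ x ∈ K, ρ ^ n * x * (ρ ^ n)⁻¹ ∈ K := by
    intro n
    induction n with
    | zero => intro x hx; simpa using hx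
    | succ n ih =>
      intro x hx
      have h1 : ρ ^ (n + 1) * x * (ρ ^ (n + 1))⁻¹ = ρ ^ n * (ρ * x * ρ⁻¹) * (ρ ^ n)⁻¹ := by
        rw [pow_succ]; group
      rw [h1]
      exact ih _ (hρ x hx)
  induction n with
  | zero => simp [nrm, K.one_mem]
  | succ n ih =>
    rw [nrm_succ]
    exact K.mul_mem ih (hpow n g hg)

theorem nrm_mul {K : Subgroup G} {ρ : G} (hρ : ∀ x ∈ K, ρ * x * ρ⁻¹ ∈ K)
    (hK : ∀ x ∈ K, ∀ y ∈ K, x * y = y * x) (n : ℕ) {g g' : G} (hg : g ∈ K) (hg' : g' ∈ K) :
    nrm ρ n (g * g') = nrm ρ n g * nrm ρ n g' := by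
  have hpow : ∀ n : ℕ, ∀ x ∈ K, ρ ^ n * x * (ρ ^ n)⁻¹ ∈ K := by
    intro n
    induction n with
    | zero => intro x hx; simpa using hx
    | succ n ih =>
      intro x hx
      have h1 : ρ ^ (n + 1) * x * (ρ ^ (n + 1))⁻¹ = ρ ^ n * (ρ * x * ρ⁻¹) * (ρ ^ n)⁻¹ := by
        rw [pow_succ]; group
      rw [h1]
      exact ih _ (hρ x hx)
  induction n with
  | zero => simp [nrm]
  | succ n ih =>
    rw [nrm_succ, nrm_succ, nrm_succ, ih]
    have h1 : ρ ^ n * (g * g') * (ρ ^ n)⁻¹ =
        (ρ ^ n * g * (ρ ^ n)⁻¹) * (ρ ^ n * g' * (ρ ^ n)⁻¹) := by group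
    rw [h1]
    have h2 := hK _ (nrm_mem hρ n hg') _ (hpow n g hg)
    calc nrm ρ n g * nrm ρ n g' * (ρ ^ n * g * (ρ ^ n)⁻¹ * (ρ ^ n * g' * (ρ ^ n)⁻¹))
        = nrm ρ n g * (nrm ρ n g' * (ρ ^ n * g * (ρ ^ n)⁻¹)) * (ρ ^ n * g' * (ρ ^ n)⁻¹) := by
          group
      _ = nrm ρ n g * ((ρ ^ n * g * (ρ ^ n)⁻¹) * nrm ρ n g') * (ρ ^ n * g' * (ρ ^ n)⁻¹) := by
          rw [h2]
      _ = _ := by group

end Norm

section Alt

variable {G : Type*} (c z : G)

/-- The alternating sequence `c, z, c, z, …`. -/
def alt (n : ℕ) : G := if Even n then c else z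

theorem alt_zero : alt c z 0 = c := by simp [alt]

theorem alt_add_two (n : ℕ) : alt c z (n + 2) = alt c z n := by
  unfold alt
  congr 1
  simp [Nat.even_add]

theorem alt_add_even {n k : ℕ} (hk : Even k) : alt c z (n + k) = alt c z n := by
  unfold alt
  congr 1
  simp [Nat.even_add, hk]

theorem alt_add_odd {n k : ℕ} (hk : Odd k) : alt c z (n + k) = alt c z (n + 1) := by
  obtain ⟨m, rfl⟩ := hk
  have : n + (2 * m + 1) = n + 1 + 2 * m := by ring
  rw [this]
  exact alt_add_even c z ⟨m, by ring⟩

theorem alt_even {n : ℕ} (h : Even n) : alt c z n = c := by simp [alt, h]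

theorem alt_odd {n : ℕ} (h : Odd n) : alt c z n = z := by
  simp [alt, Nat.not_even_iff_odd.2 h]

theorem alt_cases (n : ℕ) : (alt c z n = c ∧ alt c z (n + 1) = z) ∨
    (alt c z n = z ∧ alt c z (n + 1) = c) := by
  rcases Nat.even_or_odd n with h | h
  · exact Or.inl ⟨alt_even c z h, alt_odd c z h.add_one⟩
  · exact Or.inr ⟨alt_odd c z h, alt_even c z h.add_one⟩

end Alt

section Seq

variable (c z : G)

/-- The sequence `y, [y, c], [[y, c], z], …`. -/
def sq (y : G) : ℕ → G
  | 0 => y
  | n + 1 => sq y n * (alt c z n * sq y n * alt c z n)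

variable {c z}

theorem sq_inv {D : Set G} (h : IsRootInvolutionSet D) (hc : c ∈ D) (hz : z ∈ D)
    (hcz : Opp c z) {y : G} (hy : y ∈ D) (hyz : Commute y z) (hyc : orderOf (y * c) = 4) (n : ℕ) :
    sq c z y n ∈ D ∧ Commute (sq c z y n) (alt c z (n + 1)) ∧
      orderOf (sq c z y n * alt c z n) = 4 := by
  have hzc : Opp z c := Opp.symm' h hc hz hcz
  induction n with
  | zero =>
    refine ⟨hy, ?_, ?_⟩
    · rw [show alt c z (0 + 1) = z from alt_odd c z (by decide)]; exact hyz
    · rw [alt_zero]; exact hyc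
  | succ n ih =>
    obtain ⟨i1, i2, i3⟩ := ih
    -- generic step
    have gen : ∀ x p q : G, x ∈ D → p ∈ D → q ∈ D → Opp q p → Commute x q →
        orderOf (x * p) = 4 → x * (p * x * p) ∈ D ∧ Commute (x * (p * x * p)) p ∧
        orderOf (x * (p * x * p) * q) = 4 := by
      intro x p q hx hp hq hqp hxq h4
      have hxx := sq_of_mem h hx
      have hpp := sq_of_mem h hp
      have hD := mem_of_order_four h hx hp h4
      have hcx : Commute x (p * x * p) := commute_of_order_four hxx hpp h4
      have hcp : Commute (x * (p * x * p)) p := by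
        show x * (p * x * p) * p = p * (x * (p * x * p))
        rw [hcx.eq]
        calc p * x * p * x * p = p * x * (p * x * p) := by group
          _ = p * (x * (p * x * p)) := by group
          _ = p * (p * x * p * x) := by rw [hcx.eq]
      have hpx : p * (x * (p * x * p)) = x * p * x := by
        rw [hcx.eq]
        calc p * (p * x * p * x) = (p * p) * (x * p * x) := by group
          _ = x * p * x := by rw [hpp, one_mul]
      have hline : p * (x * (p * x * p)) ∈ D := by
        rw [hpx]; exact conj_mem' h hp hx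
      have hnc : ¬ Commute q (x * (p * x * p)) :=
        not_commute_of_opp h hp hD hcp.symm hline hq hqp
      have hline2 : (x * (p * x * p)) * x ∈ D := by
        have : (x * (p * x * p)) * x = p * x * p := by
          rw [mul_assoc, ← hcx.eq, ← mul_assoc, hxx, one_mul]
        rw [this]; exact conj_mem' h hx hp
      have hcx' : Commute (x * (p * x * p)) x := (Commute.refl x).mul_left hcx.symm
      have hno : ¬ Opp q (x * (p * x * p)) := by
        intro hopp
        exact not_commute_of_opp h hD hx hcx' hline2 hq hopp hxq.symm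
      refine ⟨hD, hcp, ?_⟩
      have h1 := (order_four_of h hD hq (fun hh => hnc hh.symm)
        (fun hh => hno (Opp.symm' h hD hq hh))).1
      exact h1
    have hstep : sq c z y (n + 1) = sq c z y n * (alt c z n * sq c z y n * alt c z n) := rfl
    rcases alt_cases c z n with ⟨e1, e2⟩ | ⟨e1, e2⟩
    · rw [e1] at i3
      rw [e2] at i2
      obtain ⟨g1, g2, g3⟩ := gen _ c z i1 hc hz hzc i2 i3
      rw [hstep, show n + 1 + 1 = n + 2 from rfl, alt_add_two, e1, e2]
      exact ⟨g1, g2, g3⟩
    · rw [e1] at i3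
      rw [e2] at i2
      obtain ⟨g1, g2, g3⟩ := gen _ z c i1 hz hc hcz i2 i3
      rw [hstep, show n + 1 + 1 = n + 2 from rfl, alt_add_two, e1, e2]
      exact ⟨g1, g2, g3⟩

theorem sq_commute {D : Set G} (h : IsRootInvolutionSet D) (hc : c ∈ D) (hz : z ∈ D)
    (hcz : Opp c z) {y : G} (hy : y ∈ D) (hyz : Commute y z) (hyc : orderOf (y * c) = 4) :
    ∀ k n : ℕ, Commute (sq c z y n) (sq c z y (n + k)) := by
  have inv := sq_inv h hc hz hcz hy hyz hyc
  have hDalt : ∀ n, alt c z n ∈ D := by
    intro n
    rcases alt_cases c z n with ⟨e, _⟩ | ⟨e, _⟩ <;> rw [e] <;> assumption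
  have taa : ∀ n, alt c z n * alt c z n = 1 := fun n => sq_of_mem h (hDalt n)
  have saa : ∀ n, sq c z y n * sq c z y n = 1 := fun n => sq_of_mem h (inv n).1
  have hstep : ∀ n, sq c z y (n + 1) = sq c z y n * (alt c z n * sq c z y n * alt c z n) :=
    fun n => rfl
  -- conjugation by `t n`
  have c1 : ∀ n, alt c z n * sq c z y n * alt c z n = sq c z y n * sq c z y (n + 1) := by
    intro n
    rw [hstep, ← mul_assoc, saa, one_mul]
  have c2 : ∀ n, alt c z (n + 1) * sq c z y n * alt c z (n + 1) = sq c z y n := by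
    intro n
    rw [← (inv n).2.1.eq, mul_assoc, taa, mul_one]
  have p1 : ∀ n, Commute (sq c z y n) (sq c z y (n + 1)) := by
    intro n
    rw [hstep]
    exact (Commute.refl _).mul_right
      (commute_of_order_four (saa n) (taa n) (inv n).2.2)
  have cconj : ∀ n : ℕ, ∀ a b : G, Commute a b →
      Commute (alt c z n * a * alt c z n) (alt c z n * b * alt c z n) := by
    intro n a b hab
    have e : ∀ x w : G, alt c z n * x * alt c z n * (alt c z n * w * alt c z n) =
        alt c z n * (x * w) * alt c z n := by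
      intro x w
      calc alt c z n * x * alt c z n * (alt c z n * w * alt c z n)
          = alt c z n * x * (alt c z n * alt c z n) * w * alt c z n := by group
        _ = alt c z n * (x * w) * alt c z n := by rw [taa]; group
    show _ * _ = _ * _
    rw [e, e, hab.eq]
  have main : ∀ k, (∀ n, Commute (sq c z y n) (sq c z y (n + k))) ∧
      (∀ n, Commute (sq c z y n) (sq c z y (n + (k + 1)))) := by
    intro k
    induction k with
    | zero => exact ⟨fun n => by simp, p1⟩
    | succ k ih =>
      refine ⟨ih.2, fun n => ?_⟩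
      have h1 := ih.2 n
      have h2 := cconj (n + (k + 1)) _ _ h1
      rw [c1 (n + (k + 1))] at h2
      rcases Nat.even_or_odd (k + 1) with hk | hk
      · -- conjugation moves `s n`
        rw [alt_add_even c z hk, c1] at h2
        have h3 : Commute (sq c z y (n + 1)) (sq c z y (n + (k + 1))) := by
          have := ih.1 (n + 1)
          rwa [show n + 1 + k = n + (k + 1) by ring] at this
        have h4 : Commute (sq c z y (n + 1)) (sq c z y (n + (k + 1) + 1)) := by
          have := ih.2 (n + 1)
          rwa [show n + 1 + (k + 1) = n + (k + 1) + 1 by ring] at this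
        have h5 : Commute (sq c z y (n + 1))
            (sq c z y (n + (k + 1)) * sq c z y (n + (k + 1) + 1)) := h3.mul_right h4
        have h6 : Commute (sq c z y n)
            (sq c z y (n + (k + 1)) * sq c z y (n + (k + 1) + 1)) := by
          have e : sq c z y n = (sq c z y n * sq c z y (n + 1)) * sq c z y (n + 1) := by
            rw [mul_assoc, saa, mul_one]
          rw [e]
          exact h2.mul_left h5
        have e : sq c z y (n + (k + 1) + 1) =
            sq c z y (n + (k + 1)) * (sq c z y (n + (k + 1)) * sq c z y (n + (k + 1) + 1)) := by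
          rw [← mul_assoc, saa, one_mul]
        show Commute (sq c z y n) (sq c z y (n + (k + 1) + 1))
        rw [e]
        exact h1.mul_right h6
      · rw [alt_add_odd c z hk, c2] at h2
        have e : sq c z y (n + (k + 1) + 1) =
            sq c z y (n + (k + 1)) * (sq c z y (n + (k + 1)) * sq c z y (n + (k + 1) + 1)) := by
          rw [← mul_assoc, saa, one_mul]
        show Commute (sq c z y n) (sq c z y (n + (k + 1) + 1))
        rw [e]
        exact h1.mul_right h2
  exact fun k => (main k).1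

/-- **Main lemma on lines.** Let `{y, z, yz}` be a line of a set of root involutions `D` of a finite
group and `c` a member of `D` opposite to `z` and not opposite to `y`.  Then some `u ∈ D` commutes
with `c`, has `uz` of order 4 and satisfies `[u, z] = y`. -/
theorem exists_preimage_of_line [Finite G] {D : Set G} (h : IsRootInvolutionSet D) {y : G}
    (hy : y ∈ D) (hz : z ∈ D) (hyz : Commute y z) (hyzD : y * z ∈ D) (hc : c ∈ D)
    (hcz : Opp c z) (hcy : ¬ Opp c y) :
    ∃ u ∈ D, Commute u c ∧ orderOf (u * z) = 4 ∧ y = u * (z * u * z) := by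
  classical
  have hzyD : z * y ∈ D := by rwa [← hyz.eq]
  have hcy4 : orderOf (c * y) = 4 := order_four_of_opp h hz hy hyz.symm hzyD hc hcz hcy
  have hcc := sq_of_mem h hc
  have hzz := sq_of_mem h hz
  have hyy := sq_of_mem h hy
  have hyc : orderOf (y * c) = 4 := by
    have : y * c = (c * y)⁻¹ := by rw [mul_inv_rev, inv_of_sq hcc, inv_of_sq hyy]
    rw [this, orderOf_inv]; exact hcy4
  have inv := sq_inv h hc hz hcz hy hyz hyc
  have com := sq_commute h hc hz hcz hy hyz hyc
  have hDalt : ∀ n, alt c z n ∈ D := by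
    intro n
    rcases alt_cases c z n with ⟨e, _⟩ | ⟨e, _⟩ <;> rw [e] <;> assumption
  have taa : ∀ n, alt c z n * alt c z n = 1 := fun n => sq_of_mem h (hDalt n)
  have saa : ∀ n, sq c z y n * sq c z y n = 1 := fun n => sq_of_mem h (inv n).1
  have hstep : ∀ n, sq c z y (n + 1) = sq c z y n * (alt c z n * sq c z y n * alt c z n) :=
    fun n => rfl
  have c1 : ∀ n, alt c z n * sq c z y n * alt c z n = sq c z y n * sq c z y (n + 1) := by
    intro n
    rw [hstep, ← mul_assoc, saa, one_mul]
  have c2 : ∀ n, alt c z (n + 1) * sq c z y n * alt c z (n + 1) = sq c z y n := by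
    intro n
    rw [← (inv n).2.1.eq, mul_assoc, taa, mul_one]
  have com' : ∀ m n, Commute (sq c z y m) (sq c z y n) := by
    intro m n
    rcases le_total m n with hmn | hmn
    · obtain ⟨k, rfl⟩ := Nat.exists_eq_add_of_le hmn
      exact com k m
    · obtain ⟨k, rfl⟩ := Nat.exists_eq_add_of_le hmn
      exact (com k n).symm
  -- the abelian subgroup `K`
  set K : Subgroup G := Subgroup.closure (Set.range (sq c z y)) with hK
  have hsK : ∀ n, sq c z y n ∈ K := fun n => Subgroup.subset_closure ⟨n, rfl⟩
  have hKcom : ∀ a ∈ K, ∀ b ∈ K, a * b = b * a := by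
    have h1 : ∀ n, ∀ b ∈ K, Commute (sq c z y n) b := by
      intro n b hb
      induction hb using Subgroup.closure_induction with
      | mem b hb => obtain ⟨m, rfl⟩ := hb; exact com' n m
      | one => exact Commute.one_right _
      | mul a b _ _ ha hb => exact ha.mul_right hb
      | inv a _ ha => exact ha.inv_right
    intro a ha b hb
    induction ha using Subgroup.closure_induction with
    | mem a ha => obtain ⟨m, rfl⟩ := ha; exact (h1 m b hb).eq
    | one => simp
    | mul a a' _ _ ha ha' => exact ((show Commute a b from ha).mul_left ha').eq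
    | inv a _ ha => exact (show Commute a b from ha).inv_left.eq
  have hKconj : ∀ t : G, t * t = 1 → (∀ n, t * sq c z y n * t ∈ K) → ∀ a ∈ K, t * a * t ∈ K := by
    intro t htt ht a ha
    have e : t * a * t = t * a * t⁻¹ := by rw [inv_of_sq htt]
    rw [e]
    clear e
    induction ha using Subgroup.closure_induction with
    | mem a ha => obtain ⟨m, rfl⟩ := ha; rw [inv_of_sq htt]; exact ht m
    | one => simp [K.one_mem]
    | mul a b _ _ ha hb =>
      have := K.mul_mem ha hb
      simpa [mul_assoc] using this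
    | inv a _ ha =>
      have := K.inv_mem ha
      simpa [mul_assoc] using this
  have htK : ∀ m n : ℕ, alt c z m * sq c z y n * alt c z m ∈ K := by
    intro m n
    have key : alt c z m = alt c z n ∨ alt c z m = alt c z (n + 1) := by
      rcases alt_cases c z n with ⟨e1, e2⟩ | ⟨e1, e2⟩ <;>
      rcases alt_cases c z m with ⟨e3, _⟩ | ⟨e3, _⟩ <;> rw [e1, e2, e3] <;> simp
    rcases key with e | e
    · rw [e, c1]; exact K.mul_mem (hsK _) (hsK _)
    · rw [e, c2]; exact hsK _
  have hcK : ∀ a ∈ K, c * a * c ∈ K := hKconj c hcc (fun n => by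
    have := htK 0 n; rwa [alt_zero] at this)
  have hzK : ∀ a ∈ K, z * a * z ∈ K := hKconj z hzz (fun n => by
    have := htK 1 n; rwa [alt_odd c z (by decide)] at this)
  set ρ : G := z * c with hρ
  have hρK : ∀ a ∈ K, ρ * a * ρ⁻¹ ∈ K := by
    intro a ha
    have : ρ * a * ρ⁻¹ = z * (c * a * c) * z := by
      rw [hρ, mul_inv_rev, inv_of_sq hcc, inv_of_sq hzz]; group
    rw [this]
    exact hzK _ (hcK _ ha)
  -- the exponent
  have hzc : Opp z c := Opp.symm' h hc hz hcz
  have hodd1 : Odd (orderOf ρ) := hzc.2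
  have hopp2 : Opp c (y * z) := by
    rcases opp_or_opp_of_line h hy hz hyz hyzD hc hcz with h1 | h1
    · exact absurd h1 hcy
    · exact h1
  have hopp3 : Opp (y * z) c := Opp.symm' h hc hyzD hopp2
  have hyρ : y * ρ = y * z * c := by rw [hρ]; group
  have hodd2 : Odd (orderOf (y * ρ)) := by rw [hyρ]; exact hopp3.2
  set k : ℕ := orderOf ρ * orderOf (y * ρ) with hk
  have hkodd : Odd k := hodd1.mul hodd2
  have hρk : ρ ^ k = 1 := by rw [hk, pow_mul, pow_orderOf_eq_one, one_pow]
  have hyρk : (y * ρ) ^ k = 1 := by rw [hk, mul_comm, pow_mul, pow_orderOf_eq_one, one_pow]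
  have nrm_iff : ∀ g : G, nrm ρ k g = (g * ρ) ^ k := by
    intro g; rw [nrm, hρk, inv_one, mul_one]
  -- the property `(g ρ) ^ k = 1` is preserved
  have hconjpow : ∀ (g x : G) (n : ℕ), (g * x * g⁻¹) ^ n = g * x ^ n * g⁻¹ := fun g x n => conj_pow
  have step0 : ∀ g : G, g * g = 1 → (g * ρ) ^ k = 1 → (g * c * z) ^ k = 1 := by
    intro g hg h1
    -- inverse of `g c z` is `z c g`, conjugate to `g z c`
    have e1 : g * c * z = (g⁻¹ * (g * ρ) * g)⁻¹ := by
      rw [hρ, mul_inv_rev, mul_inv_rev, mul_inv_rev, mul_inv_rev, inv_inv, inv_of_sq hcc,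
        inv_of_sq hzz, inv_of_sq hg]
      calc g * c * z = g * (c * z) * (g * g) := by rw [hg]; group
        _ = g * (c * z * g * g) := by group
    have e2 : g⁻¹ * (g * ρ) * g = g⁻¹ * (g * ρ) * g⁻¹⁻¹ := by rw [inv_inv]
    rw [e1, inv_pow, e2, hconjpow, h1]
    simp
  have stepz : ∀ g : G, g * g = 1 → (g * ρ) ^ k = 1 → (z * g * z * ρ) ^ k = 1 := by
    intro g hg h1
    have h2 := step0 g hg h1
    have e : z * g * z * ρ = z * (g * c * z) * z⁻¹ := by
      rw [hρ, inv_of_sq hzz]
      calc z * g * z * (z * c) = z * g * (z * z) * c := by group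
        _ = z * (g * c) * (z * z) := by rw [hzz]; group
        _ = z * (g * c * z) * z := by group
    rw [e, hconjpow, h2]; group
  have stepc : ∀ g : G, g * g = 1 → (g * ρ) ^ k = 1 → (c * g * c * ρ) ^ k = 1 := by
    intro g hg h1
    have h2 := step0 g hg h1
    have h3 : (z * g * c) ^ k = 1 := by
      have e : z * g * c = z * (g * c * z) * z⁻¹ := by
        rw [inv_of_sq hzz]
        calc z * g * c = z * (g * c) * (z * z) := by rw [hzz]; group
          _ = z * (g * c * z) * z := by group
      rw [e, hconjpow, h2]; group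
    have e : c * g * c * ρ = c * (g * c * z) * c⁻¹ := by
      rw [hρ, inv_of_sq hcc]; group
    rw [e, hconjpow, h2]; group
  have hR : ∀ n, (sq c z y n * ρ) ^ k = 1 := by
    intro n
    induction n with
    | zero => exact hyρk
    | succ n ih =>
      have h1 : (alt c z n * sq c z y n * alt c z n * ρ) ^ k = 1 := by
        rcases alt_cases c z n with ⟨e, _⟩ | ⟨e, _⟩
        · rw [e]; exact stepc _ (saa n) ih
        · rw [e]; exact stepz _ (saa n) ih
      rw [hstep, ← nrm_iff, nrm_mul hρK hKcom k (hsK n) (htK n n), nrm_iff, nrm_iff, ih, h1, one_mul]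
  -- injectivity
  have hinj : ∀ m n : ℕ, alt c z m = alt c z n → sq c z y (m + 1) = sq c z y (n + 1) →
      sq c z y m = sq c z y n := by
    intro m n hmn he
    set g : G := sq c z y m * sq c z y n with hg
    have hgK : g ∈ K := K.mul_mem (hsK m) (hsK n)
    have hgg : g * g = 1 := by
      rw [hg]
      calc sq c z y m * sq c z y n * (sq c z y m * sq c z y n)
          = sq c z y m * (sq c z y n * sq c z y m) * sq c z y n := by group
        _ = sq c z y m * (sq c z y m * sq c z y n) * sq c z y n := by rw [(com' n m).eq]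
        _ = (sq c z y m * sq c z y m) * (sq c z y n * sq c z y n) := by group
        _ = 1 := by rw [saa, saa, one_mul]
    set t : G := alt c z m with ht
    have htt : t * t = 1 := taa m
    have h1 : g * (t * g * t) = 1 := by
      have e1 : t * g * t = (t * sq c z y m * t) * (t * sq c z y n * t) := by
        rw [hg]
        calc t * (sq c z y m * sq c z y n) * t
            = t * sq c z y m * 1 * sq c z y n * t := by group
          _ = t * sq c z y m * (t * t) * sq c z y n * t := by rw [htt]
          _ = _ := by group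
      have e2 : t * sq c z y m * t = sq c z y m * sq c z y (m + 1) := c1 m
      have e3 : t * sq c z y n * t = sq c z y n * sq c z y (n + 1) := by
        rw [hmn]; exact c1 n
      rw [e1, e2, e3, ← he, hg]
      calc sq c z y m * sq c z y n * (sq c z y m * sq c z y (m + 1) *
            (sq c z y n * sq c z y (m + 1)))
          = sq c z y m * (sq c z y n * sq c z y m) * (sq c z y (m + 1) * sq c z y n) *
            sq c z y (m + 1) := by group
        _ = sq c z y m * (sq c z y m * sq c z y n) * (sq c z y n * sq c z y (m + 1)) *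
            sq c z y (m + 1) := by rw [(com' n m).eq, (com' (m + 1) n).eq]
        _ = (sq c z y m * sq c z y m) * (sq c z y n * sq c z y n) *
            (sq c z y (m + 1) * sq c z y (m + 1)) := by group
        _ = 1 := by rw [saa, saa, saa]; simp
    have h2 : Commute g t := by
      have h3 : t * g * t = g := by
        have h4 : g * (g * (t * g * t)) = g := by rw [h1, mul_one]
        rwa [← mul_assoc, hgg, one_mul] at h4
      show g * t = t * g
      calc g * t = (t * g * t) * t := by rw [h3]
        _ = t * g * (t * t) := by group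
        _ = t * g := by rw [htt, mul_one]
    have h3 : Commute g (alt c z (m + 1)) := by
      have hm1 : alt c z (m + 1) = alt c z (n + 1) := by
        rcases alt_cases c z m with ⟨e1, e2⟩ | ⟨e1, e2⟩ <;>
        rcases alt_cases c z n with ⟨e3, e4⟩ | ⟨e3, e4⟩
        · rw [e2, e4]
        · rw [e2, e4]; exact (e1.symm.trans (hmn.trans e3)).symm
        · rw [e2, e4]; exact (e1.symm.trans (hmn.trans e3)).symm
        · rw [e2, e4]
      exact (inv m).2.1.mul_left (by rw [hm1]; exact (inv n).2.1)
    have h4 : Commute g ρ := by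
      rw [hρ]
      rcases alt_cases c z m with ⟨e1, e2⟩ | ⟨e1, e2⟩
      · rw [ht, e1] at h2; rw [e2] at h3; exact h3.mul_right h2
      · rw [ht, e1] at h2; rw [e2] at h3; exact h2.mul_right h3
    have h5 : (g * ρ) ^ k = 1 := by
      rw [← nrm_iff, hg, nrm_mul hρK hKcom k (hsK m) (hsK n), nrm_iff, nrm_iff, hR, hR, one_mul]
    rw [h4.mul_pow, hρk, mul_one] at h5
    obtain ⟨l, hl⟩ := hkodd
    rw [hl, pow_succ, pow_mul, pow_two, hgg, one_pow, one_mul] at h5
    have h6 : sq c z y m = (sq c z y n)⁻¹ := eq_inv_of_mul_eq_one_left h5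
    rw [h6, inv_of_sq (saa n)]
  have hdesc : ∀ i d : ℕ, sq c z y i = sq c z y (i + 2 * d) → sq c z y 0 = sq c z y (2 * d) := by
    intro i d
    induction i with
    | zero => intro h1; rwa [zero_add] at h1
    | succ i ih =>
      intro h1
      apply ih
      apply hinj i (i + 2 * d)
      · exact (alt_add_even c z ⟨d, by ring⟩).symm
      · rw [h1]; congr 1; ring
  obtain ⟨i, j, hij, he⟩ := Finite.exists_ne_map_eq_of_infinite (fun n : ℕ => sq c z y (2 * n))
  have hex : ∃ d, 0 < d ∧ sq c z y 0 = sq c z y (2 * d) := by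
    rcases lt_or_gt_of_ne hij with hlt | hlt
    · obtain ⟨d, rfl⟩ := Nat.exists_eq_add_of_lt hlt
      refine ⟨d + 1, Nat.succ_pos _, hdesc (2 * i) (d + 1) ?_⟩
      rw [he]; congr 1
      ring
    · obtain ⟨d, rfl⟩ := Nat.exists_eq_add_of_lt hlt
      refine ⟨d + 1, Nat.succ_pos _, hdesc (2 * j) (d + 1) ?_⟩
      rw [← he]; congr 1
      ring
  obtain ⟨d, hd, he⟩ := hex
  obtain ⟨d', rfl⟩ : ∃ d', d = d' + 1 := ⟨d - 1, by omega⟩
  have hodd : Odd (2 * d' + 1) := ⟨d', rfl⟩
  obtain ⟨j1, j2, j3⟩ := inv (2 * d' + 1)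
  rw [alt_odd c z hodd] at j3
  rw [alt_even c z hodd.add_one] at j2
  refine ⟨sq c z y (2 * d' + 1), j1, j2, j3, ?_⟩
  have e : sq c z y (2 * (d' + 1)) =
      sq c z y (2 * d' + 1) * (alt c z (2 * d' + 1) * sq c z y (2 * d' + 1) *
        alt c z (2 * d' + 1)) := rfl
  rw [alt_odd c z hodd] at e
  rw [← e]
  exact he

end Seq

end Cfsg.Agent.H737
end

-- part: H737/RootSim
section
/-!
# Root involutions: opposition classes

For a connected set of root involutions `D` of a finite group, `SimR D a b` says that `a` and `b`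
have the same opposite members.  Main results: `SimR` members commute (`sim_commute`), members
commuting with one member of a `SimR`-class centralize it (`sim_centralize`).
-/

set_option autoImplicit false

namespace Cfsg.Agent.H737

open scoped commutatorElement

variable {G : Type*} [Group G]

/-- Two involutions whose product has 2-power order generate a 2-group. -/
theorem two_group_of_pair [Finite G] {t s : G} (ht : t * t = 1) (hss : s * s = 1) {k : ℕ}
    (hord : orderOf (t * s) = 2 ^ k) : IsPGroup 2 (Subgroup.closure {t, s} : Subgroup G) := by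
  have htinv : t⁻¹ = t := inv_of_sq ht
  have hsinv : s⁻¹ = s := inv_of_sq hss
  set a : G := t * s with ha
  have hinv : t * a * t⁻¹ = a⁻¹ := by
    rw [ha, mul_inv_rev, hsinv, htinv, ← mul_assoc, ht, one_mul]
  have hA : IsPGroup 2 (Subgroup.zpowers a) := by
    apply IsPGroup.of_card (n := k)
    rw [Nat.card_zpowers, hord]
  have hT : IsPGroup 2 (Subgroup.zpowers t) := by
    rintro ⟨x, hx⟩
    obtain ⟨n, rfl⟩ := Subgroup.mem_zpowers_iff.1 hx
    refine ⟨1, Subtype.ext ?_⟩
    have h1 : (t ^ n) ^ 2 = 1 := by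
      rw [pow_two, ← zpow_add, ← two_mul, zpow_mul]
      norm_cast
      rw [pow_two, ht, one_zpow]
    simpa using h1
  have hnorm : Subgroup.zpowers t ≤
      Subgroup.normalizer ((Subgroup.zpowers a : Subgroup G) : Set G) := by
    rw [Subgroup.zpowers_le, Subgroup.mem_normalizer_iff]
    have hfor : ∀ h ∈ Subgroup.zpowers a, t * h * t⁻¹ ∈ Subgroup.zpowers a := by
      rintro h ⟨n, rfl⟩
      simp only
      rw [← conj_zpow, hinv]
      exact ⟨-n, by simp⟩
    intro h
    refine ⟨hfor h, fun hh => ?_⟩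
    have := hfor _ hh
    rw [htinv] at this
    have h2 : t * (t * h * t) * t = h := by
      calc t * (t * h * t) * t = (t * t) * h * (t * t) := by group
        _ = h := by rw [ht]; group
    rwa [h2] at this
  refine (IsPGroup.to_sup_of_normal_left' hA hT hnorm).to_le ?_
  rw [Subgroup.closure_le]
  intro w hw
  rcases hw with rfl | hw
  · exact Subgroup.mem_sup_right (Subgroup.mem_zpowers _)
  · rw [Set.mem_singleton_iff] at hw
    subst hw
    have h1 : t * a = w := by rw [ha, ← mul_assoc, ht, one_mul]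
    rw [← h1]
    exact mul_mem (Subgroup.mem_sup_right (Subgroup.mem_zpowers _))
      (Subgroup.mem_sup_left (Subgroup.mem_zpowers _))

/-- Opposite involutions are conjugate. -/
theorem Opp.exists_conj {a b : G} (ha : a * a = 1) (hb : b * b = 1) (hab : Opp a b) :
    ∃ g : G, g * a * g⁻¹ = b := by
  obtain ⟨m, hm⟩ := hab.2
  set ρ : G := a * b with hρ
  refine ⟨ρ ^ m, ?_⟩
  have hinv : a * ρ * a⁻¹ = ρ⁻¹ := by
    rw [hρ, mul_inv_rev, inv_of_sq hb, inv_of_sq ha, ← mul_assoc, ha, one_mul]
  have h1 : a * (ρ ^ m)⁻¹ * a⁻¹ = ρ ^ m := by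
    rw [← inv_pow, ← conj_pow]
    rw [show a * ρ⁻¹ * a⁻¹ = (a * ρ * a⁻¹)⁻¹ by group, hinv, inv_inv]
  have h2 : a * (ρ ^ m)⁻¹ = ρ ^ m * a := by
    calc a * (ρ ^ m)⁻¹ = (a * (ρ ^ m)⁻¹ * a⁻¹) * a := by group
      _ = ρ ^ m * a := by rw [h1]
  have h3 : ρ ^ (2 * m + 1) = 1 := by rw [← hm, pow_orderOf_eq_one]
  calc ρ ^ m * a * (ρ ^ m)⁻¹ = ρ ^ m * (a * (ρ ^ m)⁻¹) := by group
    _ = ρ ^ m * (ρ ^ m * a) := by rw [h2]
    _ = (ρ ^ (2 * m + 1)) * ρ⁻¹ * a := by rw [pow_succ, two_mul, pow_add]; group
    _ = b := by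
      rw [h3, hρ, mul_inv_rev, inv_of_sq ha, inv_of_sq hb, one_mul, mul_assoc, ha, mul_one]

theorem opp_of_oddAdj {D : Set G} {a b : G} (h : OddAdj D a b) : Opp a b := ⟨h.2.2.1, h.2.2.2⟩

/-- In a connected set of root involutions all members are conjugate. -/
theorem exists_conj_of_connected {D : Set G} (h : IsRootInvolutionSet D)
    (hc : IsConnectedSet (OddAdj D) D) {a b : G} (ha : a ∈ D) (hb : b ∈ D) :
    ∃ g : G, g * a * g⁻¹ = b := by
  have h1 := hc a ha b hb
  clear hb
  induction h1 with
  | refl => exact ⟨1, by group⟩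
  | tail h2 h3 ih =>
    obtain ⟨g, hg⟩ := ih
    obtain ⟨k, hk⟩ := Opp.exists_conj (sq_of_mem h h3.1) (sq_of_mem h h3.2.1) (opp_of_oddAdj h3)
    refine ⟨k * g, ?_⟩
    rw [← hk, ← hg]; group

/-- A connected set of root involutions with at least two members: every member has an opposite
member. -/
theorem exists_opp_of_connected {D : Set G} (h : IsRootInvolutionSet D)
    (hc : IsConnectedSet (OddAdj D) D) {a b : G} (ha : a ∈ D) (hb : b ∈ D) (hab : a ≠ b) :
    ∃ c ∈ D, Opp c a := by
  have h1 := hc a ha b hb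
  rcases Relation.ReflTransGen.cases_head h1 with h2 | ⟨c, h2, _⟩
  · exact absurd h2 hab
  · exact ⟨c, h2.2.1, Opp.symm' h ha h2.2.1 (opp_of_oddAdj h2)⟩

/-- `a` and `b` have the same opposite members. -/
def SimR (D : Set G) (a b : G) : Prop := ∀ c ∈ D, Opp c a ↔ Opp c b

theorem SimR.refl (D : Set G) (a : G) : SimR D a a := fun _ _ => Iff.rfl

theorem SimR.symm {D : Set G} {a b : G} (h : SimR D a b) : SimR D b a :=
  fun c hc => (h c hc).symm

theorem SimR.trans {D : Set G} {a b c : G} (h : SimR D a b) (h' : SimR D b c) : SimR D a c :=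
  fun d hd => (h d hd).trans (h' d hd)

theorem SimR.conj {D : Set G} (h : IsRootInvolutionSet D) {a b : G} (hab : SimR D a b) (g : G) :
    SimR D (g * a * g⁻¹) (g * b * g⁻¹) := by
  intro c hc
  have h1 : c = g * (g⁻¹ * c * g) * g⁻¹ := by group
  have h2 : g⁻¹ * c * g ∈ D := by
    have := h.conj_mem c hc g⁻¹
    rwa [inv_inv] at this
  rw [h1, opp_conj, opp_conj]
  exact hab _ h2

/-- Conjugation by an involution. -/
theorem SimR.conj' {D : Set G} (h : IsRootInvolutionSet D) {a b x : G} (hx : x ∈ D)
    (hab : SimR D a b) : SimR D (x * a * x) (x * b * x) := by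
  have := hab.conj h x
  rwa [inv_of_mem h hx] at this

/-- If `a`, `b` are conjugate and every member opposite to `a` is opposite to `b`, then `a` and `b`
have the same opposite members. -/
theorem sim_of_imp [Finite G] {D : Set G} (h : IsRootInvolutionSet D) {a b g : G}
    (hg : g * a * g⁻¹ = b) (hab : ∀ c ∈ D, Opp c a → Opp c b) : SimR D a b := by
  set A : Set G := {c | c ∈ D ∧ Opp c a} with hA
  set B : Set G := {c | c ∈ D ∧ Opp c b} with hB
  have hsub : A ⊆ B := fun c hc => ⟨hc.1, hab c hc.1 hc.2⟩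
  have hcard : B.ncard ≤ A.ncard := by
    refine Set.ncard_le_ncard_of_injOn (fun x => g⁻¹ * x * g) ?_ ?_ (Set.toFinite _)
    · intro x hx
      have h2 : g⁻¹ * x * g ∈ D := by
        have := h.conj_mem x hx.1 g⁻¹
        rwa [inv_inv] at this
      refine ⟨h2, ?_⟩
      rw [← opp_conj g]
      have e : g * (g⁻¹ * x * g) * g⁻¹ = x := by group
      show Opp (g * (g⁻¹ * x * g) * g⁻¹) (g * a * g⁻¹)
      rw [e, hg]
      exact hx.2
    · intro x _ y _ hxy
      simpa using hxy
  have heq : A = B := Set.eq_of_subset_of_ncard_le hsub hcard (Set.toFinite _)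
  intro c hc
  constructor
  · exact hab c hc
  · intro h1
    have h2 : c ∈ B := ⟨hc, h1⟩
    rw [← heq] at h2
    exact h2.2

section Conn

variable [Finite G] {D : Set G}

theorem exists_opp_not_opp (h : IsRootInvolutionSet D) (hc : IsConnectedSet (OddAdj D) D)
    {a b : G} (ha : a ∈ D) (hb : b ∈ D) (hab : ¬ SimR D a b) : ∃ c ∈ D, Opp c a ∧ ¬ Opp c b := by
  by_contra hcon
  push Not at hcon
  obtain ⟨g, hg⟩ := exists_conj_of_connected h hc ha hb
  exact hab (sim_of_imp h hg hcon)

/-- On a line with `a` and `b` in one class, also `ab` lies in that class. -/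
theorem sim_line (h : IsRootInvolutionSet D) (hc : IsConnectedSet (OddAdj D) D)
    {a b : G} (ha : a ∈ D) (hb : b ∈ D) (hab : Commute a b) (habD : a * b ∈ D)
    (hs : SimR D a b) : SimR D (a * b) a := by
  by_contra hcon
  obtain ⟨c, hcD, h1, h2⟩ := exists_opp_not_opp h hc habD ha hcon
  have e : b * (a * b) = a := by rw [hab.eq, ← mul_assoc, sq_of_mem h hb, one_mul]
  have h3 := opp_or_opp_of_line h hb habD (hab.symm.mul_right (Commute.refl b))
    (by rw [e]; exact ha) hcD h1
  rw [e] at h3
  rcases h3 with h3 | h3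
  · exact h2 ((hs c hcD).2 h3)
  · exact h2 h3

end Conn

/-- Members of a class are not opposite to each other. -/
theorem SimR.not_opp {D : Set G} {a b : G} (ha : a ∈ D)
    (hs : SimR D a b) : ¬ Opp a b := by
  intro h1
  exact ((hs a ha).2 h1).1 rfl

theorem sim_conj_of_commute {D : Set G} (h : IsRootInvolutionSet D) {x d e : G} (hx : x ∈ D)
    (hxd : Commute x d) (hed : SimR D e d) : SimR D (x * e * x) d := by
  have h1 := hed.conj' h hx
  have h2 : x * d * x = d := by rw [hxd.eq, mul_assoc, sq_of_mem h hx, mul_one]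
  rwa [h2] at h1

/-- A set of involutions closed under conjugation by its members, with products of 2-power order,
generates a 2-group. -/
theorem two_group_of_normal_subset [Finite G] {Δ : Set G} (hinv : ∀ x ∈ Δ, x * x = 1)
    (hconj : ∀ x ∈ Δ, ∀ y ∈ Δ, x * y * x ∈ Δ)
    (hord : ∀ x ∈ Δ, ∀ y ∈ Δ, ∃ k : ℕ, orderOf (x * y) = 2 ^ k) :
    IsPGroup 2 (Subgroup.closure Δ : Subgroup G) := by
  set Q : Subgroup G := Subgroup.closure Δ with hQ
  let K : Set ↥Q := {q | (q : G) ∈ Δ}
  have hnorm : ∀ g ∈ Q, ∀ x ∈ Δ, g * x * g⁻¹ ∈ Δ := by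
    intro g hg
    induction hg using Subgroup.closure_induction with
    | mem g hg => intro x hx; rw [inv_of_sq (hinv g hg)]; exact hconj g hg x hx
    | one => intro x hx; simpa using hx
    | mul a b _ _ ha hb =>
      intro x hx
      have := ha _ (hb x hx)
      have e : a * b * x * (a * b)⁻¹ = a * (b * x * b⁻¹) * a⁻¹ := by group
      rwa [e]
    | inv a _ ha =>
      -- conjugation by `a` is a permutation of the finite set `Δ`
      intro x hx
      have hinj : Set.InjOn (fun x => a * x * a⁻¹) Δ := by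
        intro x _ y _ hxy; simpa using hxy
      have himg : (fun x => a * x * a⁻¹) '' Δ = Δ := by
        refine Set.eq_of_subset_of_ncard_le ?_ ?_ (Set.toFinite _)
        · rintro _ ⟨x, hx, rfl⟩; exact ha x hx
        · rw [hinj.ncard_image]
      rw [← himg] at hx
      obtain ⟨y, hy, hyx⟩ := hx
      have e : a⁻¹ * x * a⁻¹⁻¹ = y := by
        rw [← hyx]; simp only; group
      rwa [e]
  have h1 : IsPGroup 2 (Subgroup.closure K : Subgroup ↥Q) := by
    apply Cfsg.Agent.Involutions.BaerSuzuki.baer_suzuki_set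
    · intro g x hx
      exact hnorm g g.2 x hx
    · intro x hx y hy
      obtain ⟨k, hk⟩ := hord x hx y hy
      refine two_group_of_pair (k := k) (Subtype.ext (hinv x hx)) (Subtype.ext (hinv y hy)) ?_
      rw [← hk, ← Subgroup.orderOf_coe, Subgroup.coe_mul]
  have h2 : Subgroup.closure K = ⊤ := by
    have h3 : (Subgroup.closure K).map Q.subtype = (⊤ : Subgroup ↥Q).map Q.subtype := by
      rw [MonoidHom.map_closure, ← MonoidHom.range_eq_map, Subgroup.range_subtype]
      have h4 : Q.subtype '' K = Δ := by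
        ext x
        constructor
        · rintro ⟨y, hy, rfl⟩; exact hy
        · intro hx; exact ⟨⟨x, Subgroup.subset_closure hx⟩, hx, rfl⟩
      rw [h4]
    exact Subgroup.map_injective Q.subtype_injective h3
  rw [h2] at h1
  exact h1.of_equiv Subgroup.topEquiv

/-- In a nilpotent group generated by a set `Δ` of nonidentity elements whose commutators lie in
`Δ ∪ {1}`, some member of `Δ` is central. -/
theorem exists_central_member {Δ : Set G} (hne : Δ.Nonempty) (h1 : (1 : G) ∉ Δ)
    (hnil : Group.IsNilpotent (Subgroup.closure Δ : Subgroup G))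
    (hcomm : ∀ x ∈ Δ, ∀ y ∈ Δ, ⁅x, y⁆ = 1 ∨ ⁅x, y⁆ ∈ Δ) : ∃ z ∈ Δ, ∀ x ∈ Δ, Commute z x := by
  classical
  set Q : Subgroup G := Subgroup.closure Δ with hQ
  obtain ⟨n, hn⟩ := Q.isNilpotent_iff_lowerCentralSeries.1 hnil
  have hex : ∃ k, ∀ z ∈ Δ, z ∉ Q.lowerCentralSeries k := by
    refine ⟨n, fun z hz hz' => ?_⟩
    rw [hn, Subgroup.mem_bot] at hz'
    exact h1 (hz' ▸ hz)
  have hk := Nat.find_spec hex
  have hk0 : Nat.find hex ≠ 0 := by
    intro h0
    rw [h0] at hk
    obtain ⟨z, hz⟩ := hne
    exact hk z hz (Subgroup.subset_closure hz)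
  obtain ⟨k, hk'⟩ := Nat.exists_eq_succ_of_ne_zero hk0
  have hmin := Nat.find_min hex (m := k) (by omega)
  push Not at hmin
  obtain ⟨z, hz, hzk⟩ := hmin
  refine ⟨z, hz, fun x hx => ?_⟩
  have h2 : ⁅z, x⁆ ∈ Q.lowerCentralSeries (k + 1) := by
    rw [Subgroup.lowerCentralSeries_succ]
    exact Subgroup.commutator_mem_commutator hzk (Subgroup.subset_closure hx)
  rcases hcomm z hz x hx with h3 | h3
  · exact commutatorElement_eq_one_iff_commute.1 h3
  · rw [hk'] at hk
    exact absurd h2 (hk _ h3)

section Conn2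

variable {D : Set G}

theorem exists_two_pow_of_not_opp (h : IsRootInvolutionSet D) {x y : G} (hx : x ∈ D)
    (hy : y ∈ D) (hn : ¬ Opp x y) : ∃ k : ℕ, orderOf (x * y) = 2 ^ k := by
  rcases opp_trichotomy h hx hy with h1 | h1 | h1
  · have h2 : (x * y) * (x * y) = 1 := by
      calc x * y * (x * y) = x * (y * x) * y := by group
        _ = x * (x * y) * y := by rw [← h1.eq]
        _ = (x * x) * (y * y) := by group
        _ = 1 := by rw [sq_of_mem h hx, sq_of_mem h hy, one_mul]
    have h3 : orderOf (x * y) ∣ 2 := orderOf_dvd_of_pow_eq_one (by rw [pow_two, h2])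
    rcases (Nat.dvd_prime Nat.prime_two).1 h3 with h4 | h4
    · exact ⟨0, by rw [h4]; rfl⟩
    · exact ⟨1, by rw [h4]; rfl⟩
  · exact absurd h1 hn
  · exact ⟨2, by rw [h1.1]; rfl⟩

/-- **Members of one opposition class commute.** -/
theorem sim_commute [Finite G] (h : IsRootInvolutionSet D) (hc : IsConnectedSet (OddAdj D) D)
    {a b : G} (ha : a ∈ D) (hb : b ∈ D) (hab : SimR D a b) : Commute a b := by
  set Δ : Set G := {x | x ∈ D ∧ SimR D x a} with hΔ
  have haΔ : a ∈ Δ := ⟨ha, SimR.refl D a⟩
  have hbΔ : b ∈ Δ := ⟨hb, hab.symm⟩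
  have hpair : ∀ x ∈ Δ, ∀ y ∈ Δ, ¬ Opp x y := fun x hx y hy =>
    SimR.not_opp hx.1 (hx.2.trans hy.2.symm)
  have hconj : ∀ x ∈ Δ, ∀ y ∈ Δ, x * y * x ∈ Δ := by
    intro x hx y hy
    refine ⟨conj_mem' h hy.1 hx.1, ?_⟩
    exact (sim_conj_of_commute h hx.1 (Commute.refl x) (hy.2.trans hx.2.symm)).trans hx.2
  have h2 : IsPGroup 2 (Subgroup.closure Δ : Subgroup G) :=
    two_group_of_normal_subset (fun x hx => sq_of_mem h hx.1) hconj
      (fun x hx y hy => exists_two_pow_of_not_opp h hx.1 hy.1 (hpair x hx y hy))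
  have hcomm : ∀ x ∈ Δ, ∀ y ∈ Δ, ⁅x, y⁆ = 1 ∨ ⁅x, y⁆ ∈ Δ := by
    intro x hx y hy
    by_cases hxy : Commute x y
    · exact Or.inl (commutatorElement_eq_one_iff_commute.2 hxy)
    · right
      have e : ⁅x, y⁆ = x * (y * x * y) := by
        rw [commutatorElement_def, inv_of_mem h hx.1, inv_of_mem h hy.1]; group
      obtain ⟨h4, hD⟩ := order_four_of h hx.1 hy.1 hxy (hpair x hx y hy)
      rw [e]
      refine ⟨hD, ?_⟩
      have h5 : y * x * y ∈ Δ := hconj y hy x hx
      have h6 : Commute x (y * x * y) :=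
        commute_of_order_four (sq_of_mem h hx.1) (sq_of_mem h hy.1) h4
      exact (sim_line h hc hx.1 h5.1 h6 hD (hx.2.trans h5.2.symm)).trans hx.2
  obtain ⟨z, hz, hzc⟩ := exists_central_member ⟨a, haΔ⟩ (fun h1 => ne_one_of_mem h h1.1 rfl)
    h2.isNilpotent hcomm
  obtain ⟨g, hg⟩ := exists_conj_of_connected h hc hz.1 ha
  -- `g` normalizes `Δ`
  have h3 : g⁻¹ * b * g ∈ Δ := by
    have h4 : SimR D (g⁻¹ * b * g) (g⁻¹ * a * g) := by
      have := hab.symm.conj h g⁻¹
      rwa [inv_inv] at this
    have h5 : g⁻¹ * a * g = z := by rw [← hg]; group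
    refine ⟨?_, ?_⟩
    · have := h.conj_mem b hb g⁻¹
      rwa [inv_inv] at this
    · rw [h5] at h4; exact h4.trans hz.2
  have h4 := (hzc _ h3).eq
  show a * b = b * a
  rw [← hg]
  calc g * z * g⁻¹ * b = g * (z * (g⁻¹ * b * g)) * g⁻¹ := by group
    _ = g * ((g⁻¹ * b * g) * z) * g⁻¹ := by rw [h4]
    _ = b * (g * z * g⁻¹) := by group

/-- If `a` and `b` are opposite, then so are `a` and `b a b`. -/
theorem Opp.opp_conj_self {a b : G} (ha : a * a = 1) (hb : b * b = 1) (hab : Opp a b) :
    Opp a (b * a * b) := by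
  have e : a * (b * a * b) = (a * b) ^ 2 := by rw [pow_two]; group
  refine ⟨?_, ?_⟩
  · intro h1
    apply hab.not_commute ha hb
    show a * b = b * a
    calc a * b = (b * a * b) * b := by rw [← h1]
      _ = b * a * (b * b) := by group
      _ = b * a := by rw [hb, mul_one]
  · rw [e]
    exact hab.2.of_dvd_nat (orderOf_pow_dvd 2)

theorem orderOf_mul_comm' {a b : G} (ha : a * a = 1) (hb : b * b = 1) :
    orderOf (a * b) = orderOf (b * a) := by
  have : b * a = (a * b)⁻¹ := by rw [mul_inv_rev, inv_of_sq ha, inv_of_sq hb]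
  rw [this, orderOf_inv]

/-- The basic configuration: `y` fixes the class of `e` but does not commute with `e`. -/
theorem bad_config [Finite G] (h : IsRootInvolutionSet D) (hc : IsConnectedSet (OddAdj D) D)
    {y e : G} (hy : y ∈ D) (he : e ∈ D) (hs : SimR D (y * e * y) e) (hn : ¬ Commute y e) :
    e * (y * e * y) ∈ D ∧ SimR D (e * (y * e * y)) e ∧ Commute (e * (y * e * y)) y ∧
      Commute (e * (y * e * y)) e ∧ y * (e * (y * e * y)) = e * y * e ∧
      ¬ SimR D (e * (y * e * y)) y := by
  have hee := sq_of_mem h he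
  have hyy := sq_of_mem h hy
  have h1 : ¬ Opp e y := by
    intro h1
    have h2 := h1.opp_conj_self hee hyy
    exact SimR.not_opp he hs.symm h2
  obtain ⟨h4, hD⟩ := order_four_of h he hy (fun hh => hn hh.symm) h1
  have hcm : Commute e (y * e * y) := commute_of_order_four hee hyy h4
  have hsz : SimR D (e * (y * e * y)) e :=
    sim_line h hc he (conj_mem' h he hy) hcm hD hs.symm
  have hzy : Commute (e * (y * e * y)) y := by
    show e * (y * e * y) * y = y * (e * (y * e * y))
    rw [hcm.eq]
    calc y * e * y * e * y = y * (e * y * e * y) := by group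
      _ = y * (e * (y * e * y)) := by group
      _ = y * (y * e * y * e) := by rw [hcm.eq]
  have hze : Commute (e * (y * e * y)) e := (Commute.refl e).mul_left hcm.symm
  refine ⟨hD, hsz, hzy, hze, ?_, ?_⟩
  · rw [← hzy.eq]
    calc e * (y * e * y) * y = e * y * e * (y * y) := by group
      _ = e * y * e := by rw [hyy, mul_one]
  · intro h5
    exact hn (sim_commute h hc hy he (h5.symm.trans hsz))

theorem bad_config_not_commute [Finite G] (h : IsRootInvolutionSet D)
    (hc : IsConnectedSet (OddAdj D) D) {y e c : G} (hy : y ∈ D) (he : e ∈ D)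
    (hs : SimR D (y * e * y) e) (hn : ¬ Commute y e) (hcD : c ∈ D) (hce : Opp c e) :
    ¬ Commute c y := by
  obtain ⟨b1, b2, b3, -, b5, -⟩ := bad_config h hc hy he hs hn
  have h1 : e * (y * e * y) * y ∈ D := by
    rw [b3.eq, b5]; exact conj_mem' h hy he
  exact not_commute_of_opp h b1 hy b3 h1 hcD ((b2 c hcD).2 hce)

/-- If `x` has product of order 4 with all members of the class of `e`, then this class and its
conjugate by `x` commute. -/
theorem sim_commute_conj [Finite G] (h : IsRootInvolutionSet D)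
    (hc : IsConnectedSet (OddAdj D) D) {x e : G} (hx : x ∈ D)
    (hV : ∀ g ∈ D, SimR D g e → orderOf (x * g) = 4) {g g' : G} (hg : g ∈ D) (hg' : g' ∈ D)
    (hge : SimR D g e) (hge' : SimR D g' e) : Commute g (x * g' * x) := by
  have hxx := sq_of_mem h hx
  have hself : ∀ k ∈ D, SimR D k e → Commute k (x * k * x) := by
    intro k hk hke
    refine commute_of_order_four (sq_of_mem h hk) hxx ?_
    rw [orderOf_mul_comm' (sq_of_mem h hk) hxx]
    exact hV k hk hke
  by_contra hcon
  set x1 : G := x * g' * x with hx1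
  have hx1D : x1 ∈ D := conj_mem' h hg' hx
  have hgg' : SimR D g g' := hge.trans hge'.symm
  have s1 : SimR D (x1 * g * x1) g' :=
    sim_conj_of_commute h hx1D (hself g' hg' hge').symm hgg'
  have s2 : SimR D (x1 * g * x1) g := s1.trans hgg'.symm
  have hn : ¬ Commute x1 g := fun hh => hcon hh.symm
  obtain ⟨b1, b2, b3, b4, b5, b6⟩ := bad_config h hc hx1D hg s2 hn
  have s3 : SimR D (x * g * x) x1 := hgg'.conj' h hx
  have s4 : SimR D (g * x1 * g) (x * g * x) :=
    sim_conj_of_commute h hg (hself g hg hge) s3.symm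
  have s5 : SimR D (g * x1 * g) x1 := s4.trans s3
  have hz : x1 * (x1 * (g * (x1 * g * x1))) = g * (x1 * g * x1) := by
    rw [← mul_assoc, sq_of_mem h hx1D, one_mul]
  have s6 : SimR D (x1 * (x1 * (g * (x1 * g * x1)))) x1 := by
    refine sim_line h hc hx1D (by rw [b5]; exact conj_mem' h hx1D hg)
      ((Commute.refl x1).mul_right b3.symm) (by rw [hz]; exact b1) ?_
    rw [b5]; exact s5.symm
  rw [hz] at s6
  exact b6 s6

/-- **A member commuting with one member of an opposition class commutes with all.** -/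
theorem sim_centralize [Finite G] (h : IsRootInvolutionSet D)
    (hc : IsConnectedSet (OddAdj D) D) {y d e : G} (hy : y ∈ D) (hd : d ∈ D) (he : e ∈ D)
    (hde : SimR D d e) (hyd : Commute y d) : Commute y e := by
  by_contra hn
  have s1 : SimR D (y * e * y) d := sim_conj_of_commute h hy hyd hde.symm
  have s2 : SimR D (y * e * y) e := s1.trans hde
  obtain ⟨b1, b2, b3, b4, b5, b6⟩ := bad_config h hc hy he s2 hn
  set z : G := e * (y * e * y) with hz
  obtain ⟨c, hcD, hcz, hcy⟩ := exists_opp_not_opp h hc b1 hy b6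
  have hyzD : y * z ∈ D := by rw [b5]; exact conj_mem' h hy he
  obtain ⟨u, huD, huc, huz, hyu⟩ := exists_preimage_of_line h hy b1 b3.symm hyzD hcD hcz hcy
  have hV : ∀ g ∈ D, SimR D g z → orderOf (u * g) = 4 := by
    intro g hg hgz
    have hno : ¬ Opp u g := fun hh => not_opp_of_order_four huz ((hgz u huD).1 hh)
    have hnc : ¬ Commute u g := by
      intro hug
      have s3 : SimR D (u * z * u) g := sim_conj_of_commute h huD hug hgz.symm
      exact bad_config_not_commute h hc huD b1 (s3.trans hgz)
        (not_commute_of_order_four h huD b1 huz) hcD hcz huc.symm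
    exact (order_four_of h huD hg hnc hno).1
  have h1 : Commute e (u * z * u) :=
    sim_commute_conj h hc huD hV he b1 b2.symm (SimR.refl D z)
  have h2 : Commute e y := by
    have : y = (u * z * u) * z := by rw [hyu]; group
    rw [this]
    exact h1.mul_right b4.symm
  exact hn h2.symm

/-- `e` and `d` commute with the same members of `D` iff they have the same opposite members. -/
theorem sim_iff_commutingMembers [Finite G] (h : IsRootInvolutionSet D)
    (hc : IsConnectedSet (OddAdj D) D) {d e : G} (hd : d ∈ D) (he : e ∈ D) :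
    commutingMembers D d = commutingMembers D e ↔ SimR D d e := by
  constructor
  · -- same commuting members
    have key : ∀ d e : G, d ∈ D → e ∈ D → commutingMembers D d = commutingMembers D e →
        ∀ x ∈ D, Opp x d → Opp x e := by
      intro d e hd he heq x hx hxd
      by_contra hn
      have hxx := sq_of_mem h hx
      have hdd := sq_of_mem h hd
      have hee := sq_of_mem h he
      have m1 : ∀ w : G, w ∈ D → (Commute w d ↔ Commute w e) := by
        intro w hw
        constructor
        · intro hh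
          have : w ∈ commutingMembers D d := ⟨hw, hh⟩
          rw [heq] at this
          exact this.2
        · intro hh
          have : w ∈ commutingMembers D e := ⟨hw, hh⟩
          rw [← heq] at this
          exact this.2
      have h1 : ¬ Commute x e := fun hh => hxd.not_commute hxx hdd ((m1 x hx).2 hh)
      have h4 : orderOf (e * x) = 4 := by
        rw [orderOf_mul_comm' hee hxx]
        exact (order_four_of h hx he h1 hn).1
      have h5 : Commute e (x * e * x) := commute_of_order_four hee hxx h4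
      have h6 : Commute (x * e * x) d := (m1 _ (conj_mem' h he hx)).2 h5.symm
      have h7 : Commute (x * d * x) e := by
        show x * d * x * e = e * (x * d * x)
        have h8 := h6.eq
        calc x * d * x * e = x * (d * (x * e * x)) * x := by
              calc x * d * x * e = x * d * x * e * 1 := by group
                _ = x * d * x * e * (x * x) := by rw [hxx]
                _ = _ := by group
          _ = x * ((x * e * x) * d) * x := by rw [h8]
          _ = (x * x) * (e * (x * d * x)) := by group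
          _ = e * (x * d * x) := by rw [hxx, one_mul]
      have h8 : Commute (x * d * x) d := (m1 _ (conj_mem' h hd hx)).2 h7
      have h9 : Opp d x := hxd.symm hxx hdd
      have h10 : Opp d (x * d * x) := h9.opp_conj_self hdd hxx
      exact Opp.ncomm h hd (conj_mem' h hd hx) h10 h8.symm
    intro heq x hx
    exact ⟨key d e hd he heq x hx, key e d he hd heq.symm x hx⟩
  · intro hs
    ext x
    constructor
    · rintro ⟨hx, hxd⟩
      exact ⟨hx, sim_centralize h hc hx hd he hs hxd⟩
    · rintro ⟨hx, hxe⟩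
      exact ⟨hx, sim_centralize h hc hx he hd hs.symm hxe⟩

theorem mem_union_iff_not_opp (h : IsRootInvolutionSet D) {x d : G} (hx : x ∈ D) (hd : d ∈ D) :
    x ∈ commutingMembers D d ∪ fourPartners D d ↔ ¬ Opp x d := by
  constructor
  · rintro (h1 | h1)
    · intro h2; exact Opp.ncomm h hx hd h2 h1.2
    · have : orderOf (x * d) = 4 := by
        rw [orderOf_mul_comm' (sq_of_mem h hx) (sq_of_mem h hd)]; exact h1.2
      exact not_opp_of_order_four this
  · intro h1
    rcases opp_trichotomy h hx hd with h2 | h2 | h2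
    · exact Or.inl ⟨hx, h2⟩
    · exact absurd h2 h1
    · refine Or.inr ⟨hx, ?_⟩
      rw [orderOf_mul_comm' (sq_of_mem h hd) (sq_of_mem h hx)]; exact h2.1

theorem union_eq_iff_sim (h : IsRootInvolutionSet D) {d e : G} (hd : d ∈ D) (he : e ∈ D) :
    commutingMembers D d ∪ fourPartners D d = commutingMembers D e ∪ fourPartners D e ↔
      SimR D d e := by
  constructor
  · intro heq x hx
    have h1 := mem_union_iff_not_opp h hx hd
    have h2 := mem_union_iff_not_opp h hx he
    rw [heq] at h1
    tauto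
  · intro hs
    ext x
    by_cases hx : x ∈ D
    · rw [mem_union_iff_not_opp h hx hd, mem_union_iff_not_opp h hx he, hs x hx]
    · constructor
      · rintro (h1 | h1) <;> exact absurd h1.1 hx
      · rintro (h1 | h1) <;> exact absurd h1.1 hx

/-- If `b ∈ X_a` has not the same commuting members as `a`, then `[a, u] = b` for some `u ∈ D`
with `au` of order 4, commuting with `b` and having `bu ∈ D`. -/
theorem exists_commutator_eq [Finite G] (h : IsRootInvolutionSet D)
    (hc : IsConnectedSet (OddAdj D) D) {a b : G} (ha : a ∈ D) (hb : b ∈ D)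
    (hab : Commute a b) (habD : a * b ∈ D) (hns : ¬ SimR D a b) :
    ∃ u ∈ D, orderOf (u * a) = 4 ∧ Commute u b ∧ b * u = a * u * a ∧ b = u * (a * u * a) := by
  obtain ⟨c, hcD, hca, hcb⟩ := exists_opp_not_opp h hc ha hb hns
  have hbaD : b * a ∈ D := by rwa [← hab.eq]
  obtain ⟨u, huD, huc, hua, hbu⟩ := exists_preimage_of_line h hb ha hab.symm hbaD hcD hca hcb
  have haa := sq_of_mem h ha
  have huu := sq_of_mem h huD
  have h1 : Commute u (a * u * a) := commute_of_order_four huu haa hua
  refine ⟨u, huD, hua, ?_, ?_, hbu⟩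
  · rw [hbu]; exact (Commute.refl u).mul_right h1
  · rw [hbu, h1.eq, mul_assoc (a * u * a), huu, mul_one]

end Conn2

end Cfsg.Agent.H737
end
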